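import Groth.Agent.SegreLib.Dim
import Groth.Agent.CommAlgDim.Integral
import Groth.Agent.FibDimLib.Formula
import Mathlib

/-!
# The affine dimension theorem
-/

set_option autoImplicit false
set_option linter.all false
set_option maxHeartbeats 1600000
universe u

open scoped TensorProduct
open MvPolynomial

noncomputable section

namespace AffDimLib

variable {k : Type u} [Field k]

theorem exists_embedding (P M : Type u) [CommRing P] [IsDomain P] [AddCommGroup M] [Module P M] [Module.Finite P M]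
    (htf : ∀ (c : P) (x : M), c • x = 0 → c = 0 ∨ x = 0) :
    ∃ (a : ℕ) (f : M →ₗ[P] (Fin a → P)), Function.Injective f := by
  classical
  obtain ⟨S, hS⟩ := (inferInstance : Module.Finite P M).fg_top
  obtain ⟨I, hI, hmax⟩ := exists_maximal_linearIndepOn P (fun x : ↥S => (x : M))
  let N := Submodule.span P ((fun x : ↥S => (x : M)) '' I)
  choose c hc0 hc using hmax
  let d : P := ∏ i ∈ S.attach, if h : i ∈ I then 1 else c i h
  have hd : d ≠ 0 := Finset.prod_ne_zero_iff.2 fun i _ => by
    split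
    · exact one_ne_zero
    · exact hc0 _ _
  have hmem : ∀ x : M, d • x ∈ N := by
    intro x
    have hx : x ∈ Submodule.span P (S : Set M) := by rw [hS]; trivial
    induction hx using Submodule.span_induction with
    | zero => simp
    | add a b _ _ ha hb => rw [smul_add]; exact N.add_mem ha hb
    | smul t a _ ha => rw [smul_comm]; exact N.smul_mem t ha
    | mem x hx =>
      by_cases h : (⟨x, hx⟩ : ↥S) ∈ I
      · exact N.smul_mem _ (Submodule.subset_span ⟨⟨x, hx⟩, h, rfl⟩)
      · obtain ⟨e, he⟩ := Finset.dvd_prod_of_mem (fun i => if h : i ∈ I then 1 else c i h) (S.mem_attach ⟨x, hx⟩)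
        rw [show d = (if h : (⟨x, hx⟩ : ↥S) ∈ I then 1 else c _ h) * e from he, dif_neg h, mul_comm, mul_smul]
        exact N.smul_mem _ (hc _ h)
  haveI : Finite ↥I := inferInstance
  obtain ⟨a, ⟨e⟩⟩ : ∃ a, Nonempty (↥I ≃ Fin a) := ⟨_, ⟨Finite.equivFin _⟩⟩
  have hN : Submodule.span P (Set.range fun i : ↥I => ((i : ↥S) : M)) = N := by
    rw [← Set.image_eq_range]
  let B : Module.Basis ↥I P ↥N := (Module.Basis.span hI).map (LinearEquiv.ofEq _ _ hN)
  refine ⟨a, ((B.reindex e).equivFun.toLinearMap).comp ((d • LinearMap.id (R := P) (M := M)).codRestrict N hmem),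
    fun x y hxy => ?_⟩
  have h1 : d • x = d • y := congrArg Subtype.val ((B.reindex e).equivFun.injective hxy)
  exact sub_eq_zero.1 ((htf d (x - y) (by rw [smul_sub, h1, sub_self])).resolve_left hd)

variable {r s : ℕ} (R S : Type u) [CommRing R] [CommRing S] [Algebra k R] [Algebra k S]

/-- A polynomial acts injectively on a tensor product of two finite extensions of polynomial domains. -/
theorem theta_regular [IsDomain R] [IsDomain S] (g : MvPolynomial (Fin r) k →ₐ[k] R)
    (h : MvPolynomial (Fin s) k →ₐ[k] S) (hg : Function.Injective g) (hh : Function.Injective h)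
    (hgf : g.toRingHom.Finite) (hhf : h.toRingHom.Finite)
    (f : MvPolynomial (Fin r ⊕ Fin s) k) (hf : f ≠ 0) (t : R ⊗[k] S)
    (ht : SegreLib.theta (k := k) (g ∘ X) (h ∘ X) f * t = 0) : t = 0 := by
  letI := g.toRingHom.toAlgebra
  letI := h.toRingHom.toAlgebra
  haveI : Module.Finite (MvPolynomial (Fin r) k) R := hgf
  haveI : Module.Finite (MvPolynomial (Fin s) k) S := hhf
  haveI : IsScalarTower k (MvPolynomial (Fin r) k) R := IsScalarTower.of_algebraMap_eq' g.comp_algebraMap.symm
  haveI : IsScalarTower k (MvPolynomial (Fin s) k) S := IsScalarTower.of_algebraMap_eq' h.comp_algebraMap.symm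
  obtain ⟨a, iR, hiR⟩ := exists_embedding (MvPolynomial (Fin r) k) R fun c x hcx => by
    rw [Algebra.smul_def, mul_eq_zero] at hcx
    exact hcx.imp_left fun h0 => hg (h0.trans (map_zero g).symm)
  obtain ⟨b, iS, hiS⟩ := exists_embedding (MvPolynomial (Fin s) k) S fun c x hcx => by
    rw [Algebra.smul_def, mul_eq_zero] at hcx
    exact hcx.imp_left fun h0 => hh (h0.trans (map_zero h).symm)
  let L : (Fin a → MvPolynomial (Fin r) k) ⊗[k] (Fin b → MvPolynomial (Fin s) k) ≃ₗ[k]
      (Fin b → Fin a → MvPolynomial (Fin r ⊕ Fin s) k) :=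
    (TensorProduct.piRight k k _ _) ≪≫ₗ LinearEquiv.piCongrRight fun j =>
      (TensorProduct.comm k _ _) ≪≫ₗ (TensorProduct.piRight k k _ _) ≪≫ₗ LinearEquiv.piCongrRight fun i =>
        (TensorProduct.comm k _ _) ≪≫ₗ (MvPolynomial.tensorEquivSum k (Fin r) (Fin s) k).toLinearEquiv
  let Φ : R ⊗[k] S →ₗ[k] (Fin b → Fin a → MvPolynomial (Fin r ⊕ Fin s) k) :=
    L.toLinearMap.comp (TensorProduct.map (iR.restrictScalars k) (iS.restrictScalars k))
  have hΦ : Function.Injective Φ := by
    refine L.injective.comp ?_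
    rw [← LinearMap.rTensor_comp_lTensor]
    exact (Module.Flat.rTensor_preserves_injective_linearMap (iR.restrictScalars k) hiR).comp
      (Module.Flat.lTensor_preserves_injective_linearMap (iS.restrictScalars k) hiS)
  have hΦt : ∀ x y i j, Φ (x ⊗ₜ y) j i = rename Sum.inl (iR x i) * rename Sum.inr (iS y j) := by
    intro x y i j
    show MvPolynomial.tensorEquivSum k (Fin r) (Fin s) k ((iR x i) ⊗ₜ (iS y j)) = _
    rw [show (iR x i) ⊗ₜ[k] (iS y j) = (iR x i ⊗ₜ 1) * ((1 : MvPolynomial (Fin r) k) ⊗ₜ iS y j) by simp, map_mul]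
    congr 1
    · exact AlgHom.congr_fun (φ₁ := (MvPolynomial.tensorEquivSum k (Fin r) (Fin s) k).toAlgHom.comp
        (Algebra.TensorProduct.includeLeft : MvPolynomial (Fin r) k →ₐ[k] _)) (φ₂ := rename Sum.inl)
        (MvPolynomial.algHom_ext fun i => by simp [tensorEquivSum_X_tmul_one]) (iR x i)
    · exact AlgHom.congr_fun (φ₁ := (MvPolynomial.tensorEquivSum k (Fin r) (Fin s) k).toAlgHom.comp
        (Algebra.TensorProduct.includeRight : MvPolynomial (Fin s) k →ₐ[k] _)) (φ₂ := rename Sum.inr)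
        (MvPolynomial.algHom_ext fun i => by simp [tensorEquivSum_one_tmul_X]) (iS y j)
  have key : ∀ (f : MvPolynomial (Fin r ⊕ Fin s) k) (t : R ⊗[k] S) i j,
      Φ (SegreLib.theta (k := k) (g ∘ X) (h ∘ X) f * t) j i = f * Φ t j i := by
    intro f
    induction f using MvPolynomial.induction_on with
    | C c => intro t i j; rw [← algebraMap_eq, AlgHom.commutes, ← Algebra.smul_def, map_smul, Pi.smul_apply,
        Pi.smul_apply, Algebra.smul_def]
    | add p q hp hq => intro t i j; rw [map_add, add_mul, map_add, Pi.add_apply, Pi.add_apply, hp, hq, add_mul]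
    | mul_X p v hp =>
      intro t i j
      rw [map_mul (SegreLib.theta (k := k) (g ∘ X) (h ∘ X)) p (X v), mul_assoc, hp, mul_assoc]
      congr 1
      induction t using TensorProduct.induction_on with
      | zero => simp
      | add x y hx hy => simp only [mul_add, map_add, Pi.add_apply, hx, hy]
      | tmul x y =>
        rcases v with v | v
        · rw [show SegreLib.theta (k := k) (g ∘ X) (h ∘ X) (X (Sum.inl v)) = g (X v) ⊗ₜ 1 by simp [SegreLib.theta],
            Algebra.TensorProduct.tmul_mul_tmul, one_mul, hΦt, hΦt,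
            show g (X v) * x = (X v : MvPolynomial (Fin r) k) • x from (Algebra.smul_def (X v : MvPolynomial (Fin r) k) x).symm,
            map_smul, Pi.smul_apply, smul_eq_mul, map_mul, rename_X, mul_assoc]
        · rw [show SegreLib.theta (k := k) (g ∘ X) (h ∘ X) (X (Sum.inr v)) = 1 ⊗ₜ h (X v) by simp [SegreLib.theta],
            Algebra.TensorProduct.tmul_mul_tmul, one_mul, hΦt, hΦt,
            show h (X v) * y = (X v : MvPolynomial (Fin s) k) • y from (Algebra.smul_def (X v : MvPolynomial (Fin s) k) y).symm,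
            map_smul, Pi.smul_apply, smul_eq_mul, map_mul, rename_X]
          ring
  refine hΦ ?_
  rw [map_zero]
  funext j i
  have := key f t i j
  rw [ht, map_zero] at this
  exact (mul_eq_zero.1 this.symm).resolve_left hf

/-- The tensor product of two affine domains is equidimensional. -/
theorem ringKrullDim_tensor_quotient [IsDomain R] [IsDomain S] [Algebra.FiniteType k R] [Algebra.FiniteType k S]
    {a b : ℕ} (ha : ringKrullDim R = (a : WithBot ℕ∞)) (hb : ringKrullDim S = (b : WithBot ℕ∞))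
    (m : Ideal (R ⊗[k] S)) (hm : m ∈ minimalPrimes (R ⊗[k] S)) :
    ringKrullDim ((R ⊗[k] S) ⧸ m) = ((a + b : ℕ) : WithBot ℕ∞) := by
  obtain ⟨r, g, hg, hgf⟩ := exists_finite_inj_algHom_of_fg k R
  obtain ⟨s, h, hh, hhf⟩ := exists_finite_inj_algHom_of_fg k S
  have hdimP : ∀ m : ℕ, ringKrullDim (MvPolynomial (Fin m) k) = (m : WithBot ℕ∞) := fun m => by
    rw [MvPolynomial.ringKrullDim_of_isNoetherianRing, ringKrullDim_eq_zero_of_field, zero_add]; simp
  have hr : r = a := by
    letI := g.toRingHom.toAlgebra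
    haveI : Module.Finite (MvPolynomial (Fin r) k) R := hgf
    have h1 := CommAlgDim.ringKrullDim_eq_of_integral (MvPolynomial (Fin r) k) R hg
    rw [ha, hdimP] at h1
    exact_mod_cast h1.symm
  have hs : s = b := by
    letI := h.toRingHom.toAlgebra
    haveI : Module.Finite (MvPolynomial (Fin s) k) S := hhf
    have h1 := CommAlgDim.ringKrullDim_eq_of_integral (MvPolynomial (Fin s) k) S hh
    rw [hb, hdimP] at h1
    exact_mod_cast h1.symm
  have hfin := SegreLib.theta_finite (k := k) (g ∘ X) (h ∘ X)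
    (by rw [← MvPolynomial.aeval_unique g]; exact hgf) (by rw [← MvPolynomial.aeval_unique h]; exact hhf)
  letI := (SegreLib.theta (k := k) (g ∘ X) (h ∘ X)).toRingHom.toAlgebra
  haveI : Module.Finite (MvPolynomial (Fin r ⊕ Fin s) k) (R ⊗[k] S) := hfin
  have hinj : Function.Injective (algebraMap (MvPolynomial (Fin r ⊕ Fin s) k) ((R ⊗[k] S) ⧸ m)) := by
    rw [injective_iff_map_eq_zero]
    intro f hf
    by_contra hf0
    have hfm : SegreLib.theta (k := k) (g ∘ X) (h ∘ X) f ∈ m := Ideal.Quotient.eq_zero_iff_mem.1 hf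
    refine Set.disjoint_left.1 (Ideal.disjoint_nonZeroDivisors_of_mem_minimalPrimes hm) hfm ?_
    exact mem_nonZeroDivisors_iff_right.2 fun t ht =>
      theta_regular R S g h hg hh hgf hhf f hf0 t (by rw [mul_comm]; exact ht)
  rw [CommAlgDim.ringKrullDim_eq_of_integral (MvPolynomial (Fin r ⊕ Fin s) k) ((R ⊗[k] S) ⧸ m) hinj,
    MvPolynomial.ringKrullDim_of_isNoetherianRing, ringKrullDim_eq_zero_of_field, zero_add, ← hr, ← hs]
  simp

omit R S in
theorem dim_ge_aux {σ : Type u} [Finite σ] (p q z : Ideal (MvPolynomial σ k))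
    (hz : z ∈ (p ⊔ q).minimalPrimes) {T : Type u} [CommRing T] [Algebra k T] [Algebra.FiniteType k T]
    (iL iR : MvPolynomial σ k →ₐ[k] T) (hiL : ∀ x ∈ p, iL x = 0) (hiR : ∀ x ∈ q, iR x = 0)
    (hgen : Algebra.adjoin k (Set.range iL ∪ Set.range iR) = ⊤)
    (δ : T →ₐ[k] MvPolynomial σ k ⧸ z) (hδL : ∀ x, δ (iL x) = Ideal.Quotient.mk z x)
    (hδR : ∀ x, δ (iR x) = Ideal.Quotient.mk z x) {c : WithBot ℕ∞}
    (hdim : ∀ m ∈ minimalPrimes T, ringKrullDim (T ⧸ m) = c) :
    c ≤ ringKrullDim (MvPolynomial σ k ⧸ z) + (Nat.card σ : WithBot ℕ∞) := by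
  haveI : z.IsPrime := hz.1.1
  have hδs : Function.Surjective δ := fun y => by
    obtain ⟨x, rfl⟩ := Ideal.Quotient.mk_surjective y
    exact ⟨iL x, hδL x⟩
  let Z : Ideal T := RingHom.ker δ
  haveI : Z.IsPrime := RingHom.ker_isPrime _
  let G : Set T := Set.range fun i : σ => iL (X i) - iR (X i)
  have hmin : Z ∈ (Ideal.span G).minimalPrimes := by
    refine ⟨⟨inferInstance, Ideal.span_le.2 ?_⟩, ?_⟩
    · rintro _ ⟨i, rfl⟩
      show δ (iL (X i) - iR (X i)) = 0
      rw [map_sub, hδL, hδR, sub_self]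
    · rintro Q ⟨hQp, hQJ⟩ hQZ
      haveI := hQp
      let π := Ideal.Quotient.mkₐ k Q
      let α := π.comp iL
      have hαβ : α = π.comp iR := MvPolynomial.algHom_ext fun i =>
        Ideal.Quotient.eq.2 (hQJ (Ideal.subset_span ⟨i, rfl⟩))
      let P : Ideal (MvPolynomial σ k) := RingHom.ker α
      haveI : P.IsPrime := RingHom.ker_isPrime _
      have hpP : p ⊔ q ≤ P := sup_le
        (fun x hx => show π (iL x) = 0 by rw [hiL x hx, map_zero])
        (fun x hx => show α x = 0 by rw [hαβ, AlgHom.comp_apply, hiR x hx, map_zero])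
      have hPz : P ≤ z := fun x hx => by
        rw [← Ideal.Quotient.eq_zero_iff_mem, ← hδL]
        exact hQZ (Ideal.Quotient.eq_zero_iff_mem.1 hx)
      have hzP : z ≤ P := hz.2 ⟨inferInstance, hpP⟩ hPz
      have hrep : ∀ t : T, ∃ x, δ t = Ideal.Quotient.mk z x ∧ π t = α x := by
        intro t
        have ht : t ∈ Algebra.adjoin k (Set.range iL ∪ Set.range iR) := hgen ▸ Algebra.mem_top
        induction ht using Algebra.adjoin_induction with
        | algebraMap c => exact ⟨algebraMap k _ c, (δ.commutes c).trans rfl, by simp⟩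
        | add u v _ _ hu hv =>
          obtain ⟨x, hx, hx'⟩ := hu
          obtain ⟨y, hy, hy'⟩ := hv
          exact ⟨x + y, by rw [map_add, map_add, hx, hy], by rw [map_add, map_add, hx', hy']⟩
        | mul u v _ _ hu hv =>
          obtain ⟨x, hx, hx'⟩ := hu
          obtain ⟨y, hy, hy'⟩ := hv
          exact ⟨x * y, by rw [map_mul, map_mul, hx, hy], by rw [map_mul, map_mul, hx', hy']⟩
        | mem u hu =>
          rcases hu with ⟨x, rfl⟩ | ⟨x, rfl⟩
          · exact ⟨x, hδL x, rfl⟩
          · exact ⟨x, hδR x, (AlgHom.congr_fun hαβ x).symm⟩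
      intro t ht
      obtain ⟨x, hx, hx'⟩ := hrep t
      rw [show δ t = 0 from ht] at hx
      refine Ideal.Quotient.eq_zero_iff_mem.1 (hx'.trans ?_)
      exact hzP (Ideal.Quotient.eq_zero_iff_mem.1 hx.symm)
  haveI : IsNoetherianRing T := Algebra.FiniteType.isNoetherianRing k T
  have hh : Z.height ≤ (Nat.card σ : ℕ∞) := by
    refine (Ideal.height_le_card_of_mem_minimalPrimes_span (Set.finite_range _) hmin).trans ?_
    exact_mod_cast (show G.ncard ≤ Nat.card σ from (Nat.card_coe_set_eq G) ▸ Finite.card_range_le _)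
  obtain ⟨m, hm, hmZ⟩ := Ideal.exists_minimalPrimes_le (I := (⊥ : Ideal T)) (J := Z) bot_le
  haveI : m.IsPrime := hm.1.1
  let W : Ideal (T ⧸ m) := Z.map (Ideal.Quotient.mk m)
  haveI : W.IsPrime := Ideal.map_isPrime_of_surjective Ideal.Quotient.mk_surjective (by rw [Ideal.mk_ker]; exact hmZ)
  have hW : W.height ≤ Z.height := by
    have hc : Z = W.comap (Ideal.Quotient.mk m) := by
      rw [Ideal.comap_map_of_surjective _ Ideal.Quotient.mk_surjective, ← RingHom.ker_eq_comap_bot, Ideal.mk_ker,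
        sup_eq_left.2 hmZ]
    have hpt : (⟨Z, inferInstance⟩ : PrimeSpectrum T) = PrimeSpectrum.comap (Ideal.Quotient.mk m) ⟨W, inferInstance⟩ :=
      PrimeSpectrum.ext hc
    rw [show Z.height = Order.height (⟨Z, inferInstance⟩ : PrimeSpectrum T) from PrimeSpectrum.height_eq_orderHeight ⟨Z, inferInstance⟩,
      show W.height = Order.height (⟨W, inferInstance⟩ : PrimeSpectrum (T ⧸ m)) from PrimeSpectrum.height_eq_orderHeight ⟨W, inferInstance⟩, hpt]
    exact Order.height_le_height_apply_of_strictMono (PrimeSpectrum.comap (Ideal.Quotient.mk m))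
      (Monotone.strictMono_of_injective (f := PrimeSpectrum.comap (Ideal.Quotient.mk m))
        (fun _ _ h => Ideal.comap_mono h)
        (PrimeSpectrum.comap_injective_of_surjective _ Ideal.Quotient.mk_surjective)) _
  have hf := FibDimLib.ringKrullDim_quotient_add_height_affine k (T ⧸ m) W
  rw [hdim m (by simpa [minimalPrimes] using hm),
    ringKrullDim_eq_of_ringEquiv ((DoubleQuot.quotQuotEquivQuotSup m Z).trans
      ((Ideal.quotEquivOfEq (sup_eq_right.2 hmZ)).trans (RingHom.quotientKerEquivOfSurjective (f := δ.toRingHom) hδs)))] at hf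
  rw [← hf]
  refine add_le_add le_rfl ?_
  exact_mod_cast hW.trans hh

omit R S in
/-- The affine dimension theorem. -/
theorem dim_ge {σ : Type u} [Finite σ] (p q z : Ideal (MvPolynomial σ k)) [p.IsPrime] [q.IsPrime]
    (hz : z ∈ (p ⊔ q).minimalPrimes) {a b : ℕ}
    (ha : ringKrullDim (MvPolynomial σ k ⧸ p) = (a : WithBot ℕ∞))
    (hb : ringKrullDim (MvPolynomial σ k ⧸ q) = (b : WithBot ℕ∞)) :
    ((a + b : ℕ) : WithBot ℕ∞) ≤ ringKrullDim (MvPolynomial σ k ⧸ z) + (Nat.card σ : WithBot ℕ∞) := by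
  have hpz : p ≤ z := le_sup_left.trans hz.1.2
  have hqz : q ≤ z := le_sup_right.trans hz.1.2
  haveI : Algebra.FiniteType k ((MvPolynomial σ k ⧸ p) ⊗[k] (MvPolynomial σ k ⧸ q)) :=
    Algebra.FiniteType.trans (S := MvPolynomial σ k ⧸ p) inferInstance inferInstance
  refine dim_ge_aux p q z hz (Algebra.TensorProduct.includeLeft.comp (Ideal.Quotient.mkₐ k p))
    (Algebra.TensorProduct.includeRight.comp (Ideal.Quotient.mkₐ k q))
    (fun x hx => by simp [Ideal.Quotient.eq_zero_iff_mem.2 hx])
    (fun x hx => by simp [Ideal.Quotient.eq_zero_iff_mem.2 hx]) ?_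
    (Algebra.TensorProduct.lift (Ideal.Quotient.factorₐ k hpz) (Ideal.Quotient.factorₐ k hqz) fun _ _ => Commute.all _ _)
    (fun x => by simp) (fun x => by simp) (fun m hm => ringKrullDim_tensor_quotient _ _ ha hb m hm)
  refine eq_top_iff.2 fun t _ => ?_
  induction t using TensorProduct.induction_on with
  | zero => exact zero_mem _
  | add u v hu hv => exact add_mem (hu trivial) (hv trivial)
  | tmul u v =>
    obtain ⟨x, rfl⟩ := Ideal.Quotient.mk_surjective u
    obtain ⟨y, rfl⟩ := Ideal.Quotient.mk_surjective v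
    rw [show Ideal.Quotient.mk p x ⊗ₜ[k] Ideal.Quotient.mk q y =
      (Ideal.Quotient.mk p x ⊗ₜ[k] 1) * (1 ⊗ₜ[k] Ideal.Quotient.mk q y) by simp]
    exact mul_mem (Algebra.subset_adjoin (Or.inl ⟨x, rfl⟩)) (Algebra.subset_adjoin (Or.inr ⟨y, rfl⟩))

end AffDimLib
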